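import Mathlib.Algebra.MonoidAlgebra.Basic
import Mathlib.RingTheory.Smooth.Basic
import Mathlib.RingTheory.FinitePresentation

/-!
# Algebras with a coaction of a group algebra

`R`-algebra `A` with `c : A →ₐ[R] MonoidAlgebra A W` (`W` a commutative group) satisfying the
axioms of a coaction (`IsCoact`).  `pr c w` is the projection on the part of weight `w`.  For a
subgroup `Λ` of `W` the ideal `fixI c Λ` generated by the parts of weight not in `Λ` is the ideal of
the fixed points of the diagonalizable group `D(W/Λ)`.  The quotient `A ⧸ fixI c Λ` is formally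
smooth (of finite presentation) if `A` is.
-/

set_option autoImplicit false

universe u

namespace Groth.Agent.Sga3B.RH

open MonoidAlgebra

variable {R A : Type u} [CommRing R] [CommRing A] [Algebra R A] {W : Type} [CommGroup W]
variable (c : A →ₐ[R] MonoidAlgebra A W)

/-- the component of weight `w`. -/
noncomputable def pr (w : W) : A →ₗ[R] A where
  toFun a := (c a).coeff w
  map_add' a b := by simp
  map_smul' r a := by simp

lemma pr_def (w : W) (a : A) : pr c w a = (c a).coeff w := rfl

/-- `c` is a coaction: the components of `a` sum up to `a`, and are homogeneous. -/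
structure IsCoact : Prop where
  sum_coeff : ∀ a, ((c a).coeff.sum fun _ x => x) = a
  coact : ∀ a w, c ((c a).coeff w) = MonoidAlgebra.single w ((c a).coeff w)

variable {c}

set_option linter.unusedSectionVars false

namespace IsCoact

variable (hc : IsCoact c)

include hc

lemma map_pr (w : W) (a : A) : c (pr c w a) = MonoidAlgebra.single w (pr c w a) := hc.coact a w

lemma pr_pr_same (w : W) (a : A) : pr c w (pr c w a) = pr c w a := by
  rw [pr_def c w (pr c w a), hc.map_pr, MonoidAlgebra.coeff_single, Finsupp.single_eq_same]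

lemma pr_pr_ne {w v : W} (h : w ≠ v) (a : A) : pr c w (pr c v a) = 0 := by
  rw [pr_def c w (pr c v a), hc.map_pr, MonoidAlgebra.coeff_single, Finsupp.single_eq_of_ne h]

lemma sum_pr (a : A) (s : Finset W) (hs : (c a).coeff.support ⊆ s) :
    ∑ w ∈ s, pr c w a = a := by
  conv_rhs => rw [← hc.sum_coeff a]
  rw [Finsupp.sum]
  exact (Finset.sum_subset hs fun w _ hw => by
    simpa [Finsupp.mem_support_iff, pr_def] using hw).symm

lemma map_of_pr {w : W} {a : A} (h : pr c w a = a) : c a = MonoidAlgebra.single w a := by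
  rw [← h]; simpa [hc.pr_pr_same] using hc.map_pr w a

lemma pr_of_map {w : W} {a : A} (h : c a = MonoidAlgebra.single w a) : pr c w a = a := by
  rw [pr_def, h, MonoidAlgebra.coeff_single, Finsupp.single_eq_same]

lemma pr_one_one : pr c 1 (1 : A) = 1 := by
  rw [pr_def, map_one c, show (1 : MonoidAlgebra A W) = MonoidAlgebra.single 1 1 from
    MonoidAlgebra.one_def, MonoidAlgebra.coeff_single, Finsupp.single_eq_same]

lemma pr_algebraMap (r : R) : pr c 1 (algebraMap R A r) = algebraMap R A r := by
  rw [Algebra.algebraMap_eq_smul_one, map_smul, hc.pr_one_one]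

lemma pr_mul [DecidableEq W] (a b : A) (w : W) (s : Finset W) (hs : (c a).coeff.support ⊆ s) :
    pr c w (a * b) = ∑ v ∈ s, pr c v a * pr c (v⁻¹ * w) b := by
  rw [pr_def, map_mul, MonoidAlgebra.coeff_mul_apply_left, Finsupp.sum]
  exact Finset.sum_subset hs fun v _ hv => by
    rw [Finsupp.notMem_support_iff] at hv
    rw [hv, zero_mul]

end IsCoact

section Fix

variable (c)
variable (Λ : Subgroup W)

/-- the ideal generated by the elements of weight outside `Λ`. -/
def fixI : Ideal A := Ideal.span {x | ∃ w ∉ Λ, ∃ a, pr c w a = x}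

lemma pr_mem_fixI {w : W} (hw : w ∉ Λ) (a : A) : pr c w a ∈ fixI c Λ :=
  Ideal.subset_span ⟨w, hw, a, rfl⟩

open Classical in
/-- the sum of the components of weight in `Λ`. -/
noncomputable def avg : A →ₗ[R] A where
  toFun a := (c a).coeff.sum fun w x => if w ∈ Λ then x else 0
  map_add' a b := by
    rw [map_add, MonoidAlgebra.coeff_add, Finsupp.sum_add_index]
    · intro w _; split_ifs <;> simp
    · intro w _ x y; split_ifs <;> simp
  map_smul' r a := by
    rw [map_smul, MonoidAlgebra.coeff_smul, Finsupp.sum_smul_index', RingHom.id_apply,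
      Finsupp.smul_sum]
    · refine Finsupp.sum_congr fun w _ => ?_
      split_ifs <;> simp
    · intro w; split_ifs <;> simp

open Classical in
lemma avg_eq (a : A) (s : Finset W) (hs : (c a).coeff.support ⊆ s) :
    avg c Λ a = ∑ w ∈ s, if w ∈ Λ then pr c w a else 0 := by
  change ((c a).coeff.sum fun w x => if w ∈ Λ then x else 0) = _
  rw [Finsupp.sum]
  refine Finset.sum_subset hs fun w _ hw => ?_
  rw [Finsupp.notMem_support_iff] at hw
  rw [hw]; split_ifs <;> rfl

variable {c}

lemma IsCoact.sub_avg_mem (hc : IsCoact c) (a : A) : a - avg c Λ a ∈ fixI c Λ := by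
  classical
  have h : a - avg c Λ a = ∑ w ∈ (c a).coeff.support,
      (pr c w a - if w ∈ Λ then pr c w a else 0) := by
    rw [Finset.sum_sub_distrib, hc.sum_pr a _ subset_rfl, avg_eq c Λ a _ subset_rfl]
  rw [h]
  refine Ideal.sum_mem _ fun w _ => ?_
  split_ifs with h
  · simp
  · simpa using pr_mem_fixI c Λ h a

lemma IsCoact.avg_one (hc : IsCoact c) : avg c Λ (1 : A) = 1 := by
  classical
  rw [avg_eq c Λ 1 {1}]
  · simp [hc.pr_one_one, one_mem]
  · rw [map_one, MonoidAlgebra.one_def, MonoidAlgebra.coeff_single]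
    exact Finsupp.support_single_subset

/-- the key computation: if `g` is a ring homomorphism which sends the parts of weight outside `Λ`
into an ideal `N` with `N * N = 0` then `g ∘ avg` is multiplicative. -/
lemma IsCoact.map_avg_mul (hc : IsCoact c) {C : Type*} [CommRing C] (g : A →+* C) (N : Ideal C)
    (hN : N * N = ⊥) (hg : ∀ w ∉ Λ, ∀ a, g (pr c w a) ∈ N) (a b : A) :
    g (avg c Λ (a * b)) = g (avg c Λ a) * g (avg c Λ b) := by
  classical
  have key : ∀ x ∈ N, ∀ y ∈ N, x * y = 0 := fun x hx y hy => by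
    have := Ideal.mul_mem_mul hx hy
    rwa [hN, Ideal.mem_bot] at this
  -- reduce to homogeneous elements
  have hom : ∀ (w v : W) (a b : A), g (avg c Λ (pr c w a * pr c v b)) =
      g (avg c Λ (pr c w a)) * g (avg c Λ (pr c v b)) := by
    intro w v a b
    have h1 : ∀ (w : W) (x : A), c x = MonoidAlgebra.single w x →
        avg c Λ x = if w ∈ Λ then x else 0 := by
      intro w x hx
      rw [avg_eq c Λ x {w} (by rw [hx]; exact Finsupp.support_single_subset),
        Finset.sum_singleton, hc.pr_of_map hx]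
    have h2 : c (pr c w a * pr c v b) = MonoidAlgebra.single (w * v) (pr c w a * pr c v b) := by
      rw [map_mul, hc.map_pr, hc.map_pr, MonoidAlgebra.single_mul_single]
    rw [h1 _ _ h2, h1 _ _ (hc.map_pr w a), h1 _ _ (hc.map_pr v b)]
    by_cases hw : w ∈ Λ
    · by_cases hv : v ∈ Λ
      · simp [hw, hv, mul_mem hw hv]
      · have : w * v ∉ Λ := fun h => hv ((Subgroup.mul_mem_cancel_left Λ hw).1 h)
        simp [hw, hv, this]
    · by_cases hv : v ∈ Λ
      · have : w * v ∉ Λ := fun h => hw ((Subgroup.mul_mem_cancel_right Λ hv).1 h)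
        simp [hw, hv, this]
      · simp only [hw, hv, if_false, map_zero, mul_zero]
        split_ifs
        · rw [map_mul]; exact key _ (hg w hw a) _ (hg v hv b)
        · simp
  conv_lhs => rw [← hc.sum_pr a _ subset_rfl, ← hc.sum_pr b _ subset_rfl]
  rw [Finset.sum_mul_sum]
  simp only [map_sum, hom]
  rw [← Finset.sum_mul_sum, ← map_sum, ← map_sum, ← map_sum, ← map_sum,
    hc.sum_pr a _ subset_rfl, hc.sum_pr b _ subset_rfl]

lemma IsCoact.map_avg_fixI (hc : IsCoact c) {C : Type*} [CommRing C] (g : A →+* C) (N : Ideal C)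
    (hN : N * N = ⊥) (hg : ∀ w ∉ Λ, ∀ a, g (pr c w a) ∈ N) (a : A) (ha : a ∈ fixI c Λ) :
    g (avg c Λ a) = 0 := by
  classical
  induction ha using Submodule.span_induction with
  | mem x hx =>
    obtain ⟨w, hw, a, rfl⟩ := hx
    rw [avg_eq c Λ _ {w} (by rw [hc.map_pr]; exact Finsupp.support_single_subset),
        Finset.sum_singleton, if_neg hw, map_zero]
  | zero => simp
  | add x y _ _ hx hy => simp [hx, hy]
  | smul a x _ hx =>
    rw [smul_eq_mul, hc.map_avg_mul Λ g N hN hg, hx, mul_zero]

end Fix

section Smooth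

variable (hc : IsCoact c) (Λ : Subgroup W)

include hc

theorem IsCoact.formallySmooth_quotient [Algebra.FormallySmooth R A] :
    Algebra.FormallySmooth R (A ⧸ fixI c Λ) := by
  refine Algebra.FormallySmooth.of_comp_surjective ?_
  intro C _ _ N hN φ
  have hN' : N * N = ⊥ := by rw [← pow_two]; exact hN
  obtain ⟨g, hg⟩ := Algebra.FormallySmooth.exists_lift N ⟨2, hN⟩
    (φ.comp (Ideal.Quotient.mkₐ R (fixI c Λ)))
  have hgN : ∀ w ∉ Λ, ∀ a, g (pr c w a) ∈ N := by
    intro w hw a
    have h1 := DFunLike.congr_fun hg (pr c w a)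
    simp only [AlgHom.comp_apply, Ideal.Quotient.mkₐ_eq_mk] at h1
    rw [Ideal.Quotient.eq_zero_iff_mem.2 (pr_mem_fixI c Λ hw a), map_zero] at h1
    exact Ideal.Quotient.eq_zero_iff_mem.1 h1
  let g' : A →ₐ[R] C := AlgHom.ofLinearMap (g.toLinearMap ∘ₗ avg c Λ)
    (by simp [hc.avg_one Λ]) (fun a b => hc.map_avg_mul Λ g.toRingHom N hN' hgN a b)
  refine ⟨Ideal.Quotient.liftₐ _ g' fun a ha => hc.map_avg_fixI Λ g.toRingHom N hN' hgN a ha, ?_⟩
  apply Ideal.Quotient.algHom_ext
  ext a
  have h1 := DFunLike.congr_fun hg (avg c Λ a)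
  have h2 : Ideal.Quotient.mk (fixI c Λ) (avg c Λ a) = Ideal.Quotient.mk (fixI c Λ) a := by
    rw [eq_comm, Ideal.Quotient.eq]
    exact hc.sub_avg_mem Λ a
  simp only [AlgHom.comp_apply, Ideal.Quotient.mkₐ_eq_mk] at h1
  rw [h2] at h1
  exact h1

/-- `fixI c Λ` is generated by the components of generators of `A`. -/
theorem IsCoact.fg_fixI [Algebra.FiniteType R A] : (fixI c Λ).FG := by
  classical
  obtain ⟨s, hs⟩ := Algebra.FiniteType.out (R := R) (A := A)
  let G : Finset A := s.biUnion fun a => ((c a).coeff.support.filter (· ∉ Λ)).image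
    fun w => pr c w a
  have hG : ∀ w ∉ Λ, ∀ a ∈ s, pr c w a ∈ Ideal.span (G : Set A) := by
    intro w hw a ha
    by_cases h : w ∈ (c a).coeff.support
    · apply Ideal.subset_span
      simp only [G, Finset.coe_biUnion, Set.mem_iUnion, Finset.coe_image]
      exact ⟨a, ha, w, by simpa [Finset.mem_filter] using ⟨by simpa using h, hw⟩, rfl⟩
    · rw [Finsupp.notMem_support_iff] at h
      rw [pr_def, h]; exact Ideal.zero_mem _
  refine ⟨G, le_antisymm ?_ ?_⟩
  · rw [Ideal.span_le]
    intro x hx
    simp only [G, Finset.coe_biUnion, Set.mem_iUnion, Finset.coe_image] at hx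
    obtain ⟨a, _, w, hw, rfl⟩ := hx
    simp only [Finset.coe_filter, Set.mem_ofPred_eq] at hw
    exact pr_mem_fixI c Λ hw.2 a
  · rw [fixI, Ideal.span_le]
    rintro _ ⟨w, hw, a, rfl⟩
    have hall : ∀ a ∈ Algebra.adjoin R (s : Set A), ∀ w ∉ Λ, pr c w a ∈ Ideal.span (G : Set A) := by
      intro a ha
      induction ha using Algebra.adjoin_induction with
      | mem x hx => exact fun w hw => hG w hw x hx
      | algebraMap r =>
        intro w hw
        have hw1 : w ≠ 1 := fun h => hw (h ▸ one_mem Λ)
        rw [← hc.pr_algebraMap r, hc.pr_pr_ne hw1]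
        exact Ideal.zero_mem _
      | add x y _ _ hx hy =>
        intro w hw; rw [map_add]; exact Ideal.add_mem _ (hx w hw) (hy w hw)
      | mul x y _ _ hx hy =>
        intro w hw
        rw [hc.pr_mul x y w _ subset_rfl]
        refine Ideal.sum_mem _ fun v _ => ?_
        by_cases hv : v ∈ Λ
        · refine Ideal.mul_mem_left _ _ (hy _ fun h => hw ?_)
          have := mul_mem hv h
          simpa using this
        · exact Ideal.mul_mem_right _ _ (hx v hv)
    exact hall a (hs ▸ Algebra.mem_top) w hw

theorem IsCoact.finitePresentation_quotient [Algebra.FinitePresentation R A] :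
    Algebra.FinitePresentation R (A ⧸ fixI c Λ) :=
  Algebra.FinitePresentation.quotient (hc.fg_fixI Λ)

theorem IsCoact.smooth_quotient [Algebra.Smooth R A] : Algebra.Smooth R (A ⧸ fixI c Λ) where
  formallySmooth := hc.formallySmooth_quotient Λ
  finitePresentation := hc.finitePresentation_quotient Λ

end Smooth

end Groth.Agent.Sga3B.RH
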