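import Groth.Agent.Books.DynBasic
import Groth.Agent.Sga3B.RH.Grade

/-!
# The adjoint coaction of a split torus

`A` commutative Hopf algebra over `R`, `π : A →ₐc[R] MonoidAlgebra R W` a homomorphism from the
diagonalizable group `D(W)` to `Spec A`.  `torU π χ` is the value of this homomorphism at the
`C`-point `χ : W →* C`; `ad π : A →ₐ[R] MonoidAlgebra A W` is the coaction describing the
conjugation action `g ↦ t g t⁻¹`.
-/

set_option autoImplicit false

universe u

open WithConv
open Groth.Agent.Books.DynBasic (mapPt)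

namespace Groth.Agent.Sga3B.RH

variable {R A : Type u} [CommRing R] [CommRing A] [HopfAlgebra R A]
variable {C D : Type u} [CommRing C] [Algebra R C] [CommRing D] [Algebra R D]
variable {W : Type} [CommGroup W]
variable (π : A →ₐc[R] MonoidAlgebra R W)

/-- The value in `G(C)` of the homomorphism `D(W) → G` at the point `χ`. -/
noncomputable def torU : (W →* C) →* WithConv (A →ₐ[R] C) where
  toFun χ := toConv ((MonoidAlgebra.lift R C W χ).comp (π : A →ₐ[R] MonoidAlgebra R W))
  map_one' := by
    have h : toConv (MonoidAlgebra.lift R C W (1 : W →* C)) = 1 := map_one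
      (MonoidAlgebra.liftMulEquiv (R := R) (A := C) (M := W))
    have h' := congrArg WithConv.ofConv h
    change MonoidAlgebra.lift R C W (1 : W →* C) = _ at h'
    rw [h', AlgHom.convOne_def, AlgHom.convOne_def]
    congr 1
    change (Algebra.ofId R C).comp ((Bialgebra.counitAlgHom R _).comp
      (π : A →ₐ[R] MonoidAlgebra R W)) = _
    congr 1
    ext a
    exact CoalgHomClass.counit_comp_apply π a
  map_mul' χ ψ := by
    have h : toConv (MonoidAlgebra.lift R C W (χ * ψ)) =
        toConv (MonoidAlgebra.lift R C W χ) * toConv (MonoidAlgebra.lift R C W ψ) := map_mul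
      (MonoidAlgebra.liftMulEquiv (R := R) (A := C) (M := W)) χ ψ
    have h' := congrArg WithConv.ofConv h
    change MonoidAlgebra.lift R C W (χ * ψ) = _ at h'
    rw [h']
    apply WithConv.ofConv_injective
    exact AlgHom.convMul_comp_bialgHom_distrib _ _ π

lemma torU_apply (χ : W →* C) :
    torU π χ = toConv ((MonoidAlgebra.lift R C W χ).comp (π : A →ₐ[R] MonoidAlgebra R W)) := rfl

lemma mapPt_torU (φ : C →ₐ[R] D) (χ : W →* C) :
    mapPt φ (torU π χ) = torU π ((φ : C →* D).comp χ) := by
  apply WithConv.ofConv_injective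
  change φ.comp ((MonoidAlgebra.lift R C W χ).comp (π : A →ₐ[R] MonoidAlgebra R W)) =
    (MonoidAlgebra.lift R D W _).comp (π : A →ₐ[R] MonoidAlgebra R W)
  rw [← AlgHom.comp_assoc]
  congr 1
  ext w
  simp

/-- conjugation by the value at `χ`. -/
noncomputable def orb (χ : W →* C) : WithConv (A →ₐ[R] C) →* WithConv (A →ₐ[R] C) :=
  (MulAut.conj (torU π χ)).toMonoidHom

lemma orb_apply (χ : W →* C) (g : WithConv (A →ₐ[R] C)) :
    orb π χ g = torU π χ * g * (torU π χ)⁻¹ := rfl

lemma orb_mul (χ ψ : W →* C) (g : WithConv (A →ₐ[R] C)) :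
    orb π (χ * ψ) g = orb π χ (orb π ψ g) := by
  rw [orb_apply, orb_apply, orb_apply, map_mul, mul_inv_rev]; simp only [mul_assoc]

lemma orb_one (g : WithConv (A →ₐ[R] C)) : orb π 1 g = g := by
  simp [orb_apply]

lemma mapPt_orb (φ : C →ₐ[R] D) (χ : W →* C) (g : WithConv (A →ₐ[R] C)) :
    mapPt φ (orb π χ g) = orb π ((φ : C →* D).comp χ) (mapPt φ g) := by
  simp only [orb_apply, map_mul, map_inv, mapPt_torU]

variable (R C W) in
/-- constants in the group algebra. -/
noncomputable def cst : C →ₐ[R] MonoidAlgebra C W := MonoidAlgebra.singleOneAlgHom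

@[simp] lemma cst_apply (x : C) : cst R C W x = MonoidAlgebra.single 1 x := rfl

/-- conjugation by the universal point, as a group homomorphism `G(C) → G(C[W])`. -/
noncomputable def orbHom : WithConv (A →ₐ[R] C) →* WithConv (A →ₐ[R] MonoidAlgebra C W) :=
  (orb π (MonoidAlgebra.of C W)).comp (mapPt (cst R C W))

lemma orbHom_apply (g : WithConv (A →ₐ[R] C)) :
    orbHom π g = torU π (MonoidAlgebra.of C W) * mapPt (cst R C W) g *
      (torU π (MonoidAlgebra.of C W))⁻¹ := rfl

variable (W) in
/-- functoriality of the group algebra in the coefficients. -/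
noncomputable abbrev mapW (φ : C →ₐ[R] D) : MonoidAlgebra C W →ₐ[R] MonoidAlgebra D W :=
  MonoidAlgebra.mapAlgHom W φ

lemma mapW_comp_of (φ : C →ₐ[R] D) :
    ((mapW W φ : MonoidAlgebra C W →* MonoidAlgebra D W)).comp (MonoidAlgebra.of C W) =
      MonoidAlgebra.of D W := by
  ext1 w
  simp [mapW]

lemma mapW_comp_cst (φ : C →ₐ[R] D) :
    (mapW W φ).comp (cst R C W) = (cst R D W).comp φ := by
  ext1 x
  simp [mapW]

lemma orbHom_mapPt (φ : C →ₐ[R] D) (g : WithConv (A →ₐ[R] C)) :
    orbHom π (mapPt φ g) = mapPt (mapW W φ) (orbHom π g) := by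
  simp only [orbHom, MonoidHom.comp_apply, mapPt_orb, mapW_comp_of]
  congr 1
  change toConv ((cst R D W).comp (φ.comp g.ofConv)) =
    toConv ((mapW W φ).comp ((cst R C W).comp g.ofConv))
  rw [← AlgHom.comp_assoc, ← AlgHom.comp_assoc, mapW_comp_cst]

/-- the adjoint coaction. -/
noncomputable def ad : A →ₐ[R] MonoidAlgebra A W := (orbHom π (toConv (AlgHom.id R A))).ofConv

lemma orbHom_eq (g : WithConv (A →ₐ[R] C)) :
    orbHom π g = toConv ((mapW W g.ofConv).comp (ad π)) :=
  orbHom_mapPt π g.ofConv (toConv (AlgHom.id R A))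

/-- evaluation at `χ`. -/
noncomputable def evR (χ : W →* C) : MonoidAlgebra C W →ₐ[R] C :=
  (MonoidAlgebra.lift C C W χ).restrictScalars R

lemma evR_single (χ : W →* C) (w : W) (x : C) :
    evR (R := R) χ (MonoidAlgebra.single w x) = x * χ w := by
  simp [evR]

lemma evR_apply (χ : W →* C) (f : MonoidAlgebra C W) :
    evR (R := R) χ f = f.coeff.sum fun w x => x * χ w := by
  change MonoidAlgebra.lift C C W χ f = _
  rw [MonoidAlgebra.lift_apply]
  rfl

lemma evR_comp_cst (χ : W →* C) : (evR (R := R) χ).comp (cst R C W) = AlgHom.id R C := by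
  ext x
  simp [evR_single]

lemma evR_comp_of (χ : W →* C) :
    ((evR (R := R) χ : MonoidAlgebra C W →* C)).comp (MonoidAlgebra.of C W) = χ := by
  ext w
  simp [evR_single]

lemma orb_eq (χ : W →* C) (g : WithConv (A →ₐ[R] C)) :
    orb π χ g = mapPt (evR χ) (orbHom π g) := by
  rw [orbHom, MonoidHom.comp_apply, mapPt_orb, evR_comp_of]
  congr 1
  change g = toConv ((evR χ).comp ((cst R C W).comp g.ofConv))
  rw [← AlgHom.comp_assoc, evR_comp_cst]
  rfl

lemma orb_apply_apply (χ : W →* C) (g : WithConv (A →ₐ[R] C)) (a : A) :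
    (orb π χ g).ofConv a = (ad π a).coeff.sum fun w x => g.ofConv x * χ w := by
  rw [orb_eq, orbHom_eq]
  change evR (R := R) χ (MonoidAlgebra.mapAlgHom W g.ofConv (ad π a)) = _
  generalize ad π a = f
  have h : (MonoidAlgebra.mapAlgHom W g.ofConv f).coeff =
      f.coeff.mapRange g.ofConv (map_zero _) := by
    ext w
    rw [MonoidAlgebra.coeff_mapAlgHom, Finsupp.mapRange_apply]
  rw [evR_apply, h, Finsupp.sum_mapRange_index (by simp)]

theorem isCoact_ad : IsCoact (ad π) where
  sum_coeff a := by
    have h := orb_apply_apply π (1 : W →* A) (toConv (AlgHom.id R A)) a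
    rw [orb_one] at h
    simpa using h.symm
  coact a w := by
    classical
    have h1 := orb_mul π (MonoidAlgebra.of (MonoidAlgebra A W) W)
      (((cst R (MonoidAlgebra A W) W : _ →* _)).comp (MonoidAlgebra.of A W))
      (mapPt ((cst R (MonoidAlgebra A W) W).comp (cst R A W)) (toConv (AlgHom.id R A)))
    have h2 : orb π (((cst R (MonoidAlgebra A W) W : _ →* _)).comp (MonoidAlgebra.of A W))
      (mapPt ((cst R (MonoidAlgebra A W) W).comp (cst R A W)) (toConv (AlgHom.id R A))) =
        mapPt (cst R (MonoidAlgebra A W) W) (toConv (ad π)) := by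
      change _ = mapPt (cst R (MonoidAlgebra A W) W) (orbHom π (toConv (AlgHom.id R A)))
      rw [orbHom, MonoidHom.comp_apply, mapPt_orb]
      rfl
    rw [h2] at h1
    change _ = orbHom π (toConv (ad π)) at h1
    rw [orbHom_eq] at h1
    have h3 := DFunLike.congr_fun (congrArg WithConv.ofConv h1) a
    rw [orb_apply_apply] at h3
    have h4 := congrArg (fun f : MonoidAlgebra (MonoidAlgebra A W) W => f.coeff w) h3
    simp only [AlgHom.comp_apply, mapW, MonoidAlgebra.coeff_mapAlgHom] at h4
    change _ = ad π ((ad π a).coeff w) at h4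
    rw [← h4, Finsupp.sum, MonoidAlgebra.coeff_sum, Finset.sum_apply']
    have h5 : ∀ (v : W) (x : A), (((mapPt ((cst R (MonoidAlgebra A W) W).comp (cst R A W))
        (toConv (AlgHom.id R A))).ofConv x * (((MonoidAlgebra.of (MonoidAlgebra A W) W) *
        ((cst R (MonoidAlgebra A W) W : MonoidAlgebra A W →*
          MonoidAlgebra (MonoidAlgebra A W) W)).comp (MonoidAlgebra.of A W) :
          W →* MonoidAlgebra (MonoidAlgebra A W) W) v) :
        MonoidAlgebra (MonoidAlgebra A W) W)) =
        MonoidAlgebra.single v (MonoidAlgebra.single v x) := by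
      intro v x
      change MonoidAlgebra.single 1 (MonoidAlgebra.single 1 x) *
        (MonoidAlgebra.single v 1 * MonoidAlgebra.single 1 (MonoidAlgebra.single v 1)) = _
      simp [MonoidAlgebra.single_mul_single]
    simp only [h5, MonoidAlgebra.coeff_single]
    rw [Finset.sum_eq_single w]
    · simp
    · intro v _ hv
      rw [Finsupp.single_eq_of_ne hv.symm]
    · intro hw
      rw [Finsupp.notMem_support_iff] at hw
      rw [hw]; simp

/-- the counit vanishes on the parts of nontrivial weight. -/
lemma counit_pr_ad {w : W} (hw : w ≠ 1) (a : A) :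
    Coalgebra.counit (R := R) (pr (ad π) w a) = 0 := by
  have h : orbHom π (1 : WithConv (A →ₐ[R] R)) = 1 := map_one _
  rw [orbHom_eq] at h
  have h1 := DFunLike.congr_fun (congrArg WithConv.ofConv h) a
  have h2 := congrArg (fun f : MonoidAlgebra R W => f.coeff w) h1
  simp only [AlgHom.comp_apply, mapW, MonoidAlgebra.coeff_mapAlgHom] at h2
  change (1 : WithConv (A →ₐ[R] R)).ofConv (pr (ad π) w a) = _ at h2
  change Coalgebra.counit (R := R) (pr (ad π) w a) = _ at h2
  rw [h2]
  change (algebraMap R (MonoidAlgebra R W) (Coalgebra.counit a)).coeff w = 0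
  rw [MonoidAlgebra.coe_algebraMap]
  simp [Finsupp.single_eq_of_ne hw]

end Groth.Agent.Sga3B.RH
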